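import Cfsg.Agent.Helper2.Aut.Parab2
import Cfsg.Agent.Helper2.ChevSimple
import Cfsg.Agent.Helper11.ChevGen
import Cfsg.Agent.Helper7.ChevField3
import Cfsg.Agent.Helper6.Chev.WeylChain

/-!
# Subgroups of a Chevalley group between the group over a fixed field and the fixed points

For a field automorphism `σ` of `F` and a tabulated Chevalley datum `D`: the subgroup `Lsub D σ`
generated by the root elements with parameter fixed by `σ` has trivial centraliser in `D.group F`,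
every fixed point of the entrywise automorphism is `ℓ * h` with `ℓ ∈ Lsub` and `h` a fixed diagonal
element, and the normaliser of any subgroup between `Lsub` and the fixed points is the group of fixed
points.
-/

set_option autoImplicit false
set_option linter.unusedSectionVars false
set_option linter.unusedVariables false

namespace Cfsg.Agent.Helper2.FixSub

open Cfsg.Lie Cfsg.Agent.Helper6 Cfsg.Agent.Helper2.BN Cfsg.Agent.Helper2.Aut
  Cfsg.Agent.Helper7.ChevField

variable {D : ChevalleyDatum} {F : Type*} [Field F]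

/-- the subgroup generated by the root elements with parameter in the fixed field -/
def Lsub (D : ChevalleyDatum) (σ : F ≃+* F) : Subgroup (GL D.Idx F) :=
  Subgroup.closure {g | ∃ (s : ℕ) (t : F), σ t = t ∧ (g : Matrix D.Idx D.Idx F) = D.x F s t}

theorem xU_mem_Lsub (hB : BasicOK D) (σ : F ≃+* F) (r : ℕ) {t : F} (ht : σ t = t) :
    xU hB r t ∈ Lsub D σ :=
  Subgroup.subset_closure ⟨r, t, ht, xU_val hB r t⟩

/-- an element commuting with the fundamental root elements `x_{p_i}(1)` lies in `B` -/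
theorem mem_borel_of_commute (Δ : BNData D F) {g : GL D.Idx F} (hg : g ∈ D.group F)
    (hc : ∀ i < D.rank, g * xU Δ.hB (D.simple i) 1 = xU Δ.hB (D.simple i) 1 * g) :
    g ∈ D.borelSubgroup F := by
  obtain ⟨b, hb, n, hn, u, hu, rfl⟩ := Δ.exists_normal_form hg
  by_cases hnH : n ∈ D.diagonalSubgroup F
  · exact Subgroup.mul_mem _ (Subgroup.mul_mem _ hb (Δ.diag_le_borel hnH))
      (Δ.posUnipotent_le_borel (Δ.unegGen_le_posUnipotent n hu))
  · exfalso
    obtain ⟨i, hi, hmem⟩ := Δ.exists_simple_mem_invSet hn hnH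
    have hx : xU Δ.hB (D.simple i) (1 : F) ∈ Subgroup.closure (UnegGen D F n) :=
      Subgroup.subset_closure (Δ.mem_unegGen_iff'.2 ⟨_, hmem, 1, rfl⟩)
    have e := hc i hi
    have e' : b * n * (u * xU Δ.hB (D.simple i) (1 : F)) =
        (xU Δ.hB (D.simple i) (1 : F) * b) * n * u := by
      rw [← mul_assoc, e]; group
    have hxb : xU Δ.hB (D.simple i) (1 : F) * b ∈ D.borelSubgroup F :=
      Subgroup.mul_mem _ (Δ.posUnipotent_le_borel (Δ.xU_pos_mem (isPos_simple Δ hi) 1)) hb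
    obtain ⟨-, h2⟩ := Δ.normal_form_unique hb hxb hn hn (Subgroup.mul_mem _ hu hx) hu e'
    obtain ⟨-, h3⟩ := h2 rfl
    have h4 : xU Δ.hB (D.simple i) (1 : F) = 1 := by
      have : u * xU Δ.hB (D.simple i) (1 : F) = u * 1 := by rw [h3, mul_one]
      exact mul_left_cancel this
    exact Δ.xU_one_ne_one (simple_lt Δ hi) h4

/-- an element of `B` commuting with the longest element lies in `H` -/
theorem mem_diag_of_borel_of_commute (hD : IsTabulated D) (Δ : BNData D F) {g : GL D.Idx F}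
    (hg : g ∈ D.borelSubgroup F)
    (hc : nW Δ.hB F (w0Word D) * g = g * nW Δ.hB F (w0Word D)) :
    g ∈ D.diagonalSubgroup F := by
  have W := w0Data_of_tabulated hD Δ
  have hg' : g ∈ ((D.posUnipotent F ⊔ D.diagonalSubgroup F : Subgroup (GL D.Idx F)) :
      Set (GL D.Idx F)) := hg
  rw [Subgroup.coe_mul_of_right_le_normalizer_left _ _
    (diagonal_le_normalizer_posUnipotent Δ.hB Δ.hAll Δ.hAdd Δ.hH), Set.mem_mul] at hg'
  obtain ⟨u, hu, h, hh, rfl⟩ := hg'
  obtain ⟨n₀, hn₀⟩ : ∃ n₀ : GL D.Idx F, n₀ = nW Δ.hB F (w0Word D) := ⟨_, rfl⟩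
  rw [← hn₀] at hc
  have hn₀N : n₀ ∈ D.monomialSubgroup F := by
    rw [hn₀]; exact nW_mem_monomial Δ.hB Δ.hAll W.hL
  have hv : n₀ * u * n₀⁻¹ ∈ D.negUnipotent F := by
    rw [hn₀]; exact n0_conj_U Δ W hu
  have hh' : n₀ * h * n₀⁻¹ ∈ D.diagonalSubgroup F :=
    ((Subgroup.mem_normalizer_iff.1
      (monomial_le_normalizer Δ.hB Δ.hAll Δ.hH Δ.hReach hn₀N)) h).1 hh
  have e : n₀ * u * n₀⁻¹ = u * h * (n₀ * h * n₀⁻¹)⁻¹ := by
    have h1 : n₀ * (u * h) * n₀⁻¹ = u * h := by rw [hc]; group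
    calc n₀ * u * n₀⁻¹ = (n₀ * (u * h) * n₀⁻¹) * (n₀ * h * n₀⁻¹)⁻¹ := by group
      _ = u * h * (n₀ * h * n₀⁻¹)⁻¹ := by rw [h1]
  have hmem : n₀ * u * n₀⁻¹ ∈ D.borelSubgroup F ⊓ D.negUnipotent F := by
    refine ⟨?_, hv⟩
    rw [e]
    exact Subgroup.mul_mem _ (Subgroup.mul_mem _ (Δ.posUnipotent_le_borel hu) (Δ.diag_le_borel hh))
      (Subgroup.inv_mem _ (Δ.diag_le_borel hh'))
  rw [borel_inf_negUnipotent Δ.hB Δ.hH Δ.good2, Subgroup.mem_bot] at hmem
  have hu1 : u = 1 := by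
    have : u = n₀⁻¹ * (n₀ * u * n₀⁻¹) * n₀ := by group
    rw [this, hmem]; group
  rw [hu1, one_mul]; exact hh

/-- an element of `H` commuting with all the `x_r(1)` is trivial -/
theorem eq_one_of_diag_of_commute (Δ : BNData D F) {h : GL D.Idx F}
    (hh : h ∈ D.diagonalSubgroup F)
    (hc : ∀ r < D.nroots, h * xU Δ.hB r 1 = xU Δ.hB r 1 * h) : h = 1 := by
  obtain ⟨c, hc0, hv⟩ := exists_torMat_of_mem_diagonal Δ.hB Δ.hH hh
  have hχ : ∀ r < D.nroots, torChar D c r = 1 := by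
    intro r hr
    have h1 := hc r hr
    have h2 : xU Δ.hB r (torChar D c r * 1) * h = h * xU Δ.hB r 1 := by
      apply Units.ext
      rw [Units.val_mul, Units.val_mul, hv, xU_val, xU_val]
      exact (torMat_mul_x Δ.hB Δ.hAdd hc0 hr 1).symm
    rw [h1] at h2
    have h3 := mul_right_cancel h2
    have := HRoot.xU_inj' Δ hr h3
    rwa [mul_one] at this
  apply Units.ext
  rw [hv, Units.val_one]
  unfold torMat dMat
  rw [← Matrix.diagonal_one]
  congr 1
  funext a
  rcases a with a | a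
  · rfl
  · exact hχ a.val a.isLt

/-- an element of the Chevalley group commuting with all `x_r(±1)` is trivial -/
theorem eq_one_of_commute (hD : IsTabulated D) {g : GL D.Idx F} (hg : g ∈ D.group F)
    (hc : ∀ r < D.nroots, ∀ t : F, t = 1 ∨ t = -1 →
      g * xU (basicOK_of_tabulated hD) r t = xU (basicOK_of_tabulated hD) r t * g) : g = 1 := by
  have Δ := bnData_of_tabulated F hD
  have W := w0Data_of_tabulated hD Δ
  have hB1 : g ∈ D.borelSubgroup F :=
    mem_borel_of_commute Δ hg (fun i hi => hc _ (simple_lt Δ hi) 1 (Or.inl rfl))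
  have hn : ∀ r < D.nroots, Commute g (nU Δ.hB r (one_ne_zero (α := F))) := by
    intro r hr
    rw [Cfsg.Agent.Helper11.ChevGen.nU_eq]
    have h1 : Commute g (xU Δ.hB r (1 : F)) := hc r hr 1 (Or.inl rfl)
    have h2 : Commute g (xU Δ.hB (D.neg r) (-(1 : F)⁻¹)) :=
      hc _ (Δ.hB.neg r hr).1 _ (Or.inr (by simp))
    exact (h1.mul_right h2).mul_right h1
  have hn0 : Commute g (nW Δ.hB F (w0Word D)) := by
    unfold nW
    apply Commute.list_prod_right
    intro x hx
    rw [List.mem_map] at hx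
    obtain ⟨i, hi, rfl⟩ := hx
    exact hn _ (simple_lt Δ (W.hL i hi))
  have hH : g ∈ D.diagonalSubgroup F := mem_diag_of_borel_of_commute hD Δ hB1 hn0.eq.symm
  exact eq_one_of_diag_of_commute Δ hH (fun r hr => hc r hr 1 (Or.inl rfl))

/-- a fixed point in `U` lies in `Lsub` -/
theorem mem_Lsub_of_posUnipotent_fixed (hD : IsTabulated D) (σ : F ≃+* F) {u : GL D.Idx F}
    (hu : u ∈ D.posUnipotent F) (hfix : gm D (σ : F →+* F) u = u) : u ∈ Lsub D σ := by
  have hB := basicOK_of_tabulated hD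
  obtain ⟨hex, huniq, -⟩ := uprod_of_tabulated (F := F) hD
  obtain ⟨t, ht⟩ := hex u hu
  have h1 : gm D (σ : F →+* F) u
      = wordU hB ((List.range' (D.nroots / 2) (D.nroots / 2)).map fun r => (r, σ (t r))) := by
    rw [ht, gm_wordU, List.map_map]
    rfl
  rw [hfix, ht] at h1
  have h2 := huniq t (fun r => σ (t r)) h1
  have heven : D.nroots / 2 + D.nroots / 2 = D.nroots := (bnData_of_tabulated F hD).even
  rw [ht]
  unfold wordU
  apply Subgroup.list_prod_mem
  intro x hx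
  rw [List.mem_map] at hx
  obtain ⟨p, hp, rfl⟩ := hx
  rw [List.mem_map] at hp
  obtain ⟨r, hr, rfl⟩ := hp
  rw [List.mem_range'_1] at hr
  exact xU_mem_Lsub hB σ r (h2 r hr.1 (by omega)).symm

/-- fixed diagonal elements normalise `Lsub` -/
theorem diag_conj_mem_Lsub (hD : IsTabulated D) (σ : F ≃+* F) {h : GL D.Idx F}
    (hh : h ∈ D.diagonalSubgroup F) (hfix : gm D (σ : F →+* F) h = h) {l : GL D.Idx F}
    (hl : l ∈ Lsub D σ) : h * l * h⁻¹ ∈ Lsub D σ := by
  have Δ := bnData_of_tabulated F hD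
  refine conj_closure_mem h ?_ l hl
  rintro g ⟨s, t, ht, hg⟩
  have e : g = xU Δ.hB s t := Units.ext (by rw [hg, xU_val])
  rw [e]
  by_cases hs : s < D.nroots
  · obtain ⟨c, hc⟩ := Δ.diag_conj_xU hh hs
    rw [hc t]
    have hσc : σ c = c := by
      have h1 := hc 1
      have h2 := congrArg (gm D (σ : F →+* F)) h1
      rw [map_mul, map_mul, map_inv, hfix, gm_xU, gm_xU] at h2
      have h3 : (σ : F →+* F) 1 = 1 := map_one _
      rw [h3, hc 1] at h2
      have := HRoot.xU_inj' Δ hs h2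
      rw [mul_one] at this
      exact this.symm
    apply xU_mem_Lsub
    rw [map_mul, hσc, ht]
  · rw [xU_eq_one_of_not_lt Δ.hB hs]
    simp

theorem weylGen_le_Lsub (hB : BasicOK D) (σ : F ≃+* F) : weylGen D F ≤ Lsub D σ := by
  unfold weylGen
  rw [Subgroup.closure_le]
  rintro g ⟨r, hr, hg⟩
  have e : g = nU hB r (one_ne_zero (α := F)) := Units.ext (by rw [hg, nU_val])
  rw [e, Cfsg.Agent.Helper11.ChevGen.nU_eq]
  have h1 : σ (1 : F) = 1 := map_one σ
  have h2 : σ (-(1 : F)⁻¹) = -(1 : F)⁻¹ := by simp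
  exact Subgroup.mul_mem _ (Subgroup.mul_mem _ (xU_mem_Lsub hB σ r h1) (xU_mem_Lsub hB σ _ h2))
    (xU_mem_Lsub hB σ r h1)

/-- **structure of the fixed points**: a fixed point is `ℓ * h` with `ℓ ∈ Lsub` and `h` a fixed
diagonal element -/
theorem exists_decomp (hD : IsTabulated D) (σ : F ≃+* F) {g : GL D.Idx F} (hg : g ∈ D.group F)
    (hfix : gm D (σ : F →+* F) g = g) :
    ∃ l ∈ Lsub D σ, ∃ h ∈ D.diagonalSubgroup F, gm D (σ : F →+* F) h = h ∧ g = l * h := by
  have Δ : BNData D F := bnData_of_tabulated F hD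
  obtain ⟨τ, hτ⟩ : ∃ τ : GL D.Idx F →* GL D.Idx F, τ = gm D (σ : F →+* F) := ⟨_, rfl⟩
  rw [← hτ] at hfix
  obtain ⟨b, hb, n, hn, u, hu, e⟩ := Δ.exists_normal_form hg
  have hnorm := monomial_le_normalizer Δ.hB Δ.hAll Δ.hH Δ.hReach hn
  have hτb : τ b ∈ D.borelSubgroup F := by rw [hτ]; exact gm_mem_borel Δ.hB _ hb
  have hτn : τ n ∈ D.monomialSubgroup F := by rw [hτ]; exact gm_mem_monomial Δ.hB _ hn
  have hτu : τ u ∈ Subgroup.closure (UnegGen D F (τ n)) := by rw [hτ]; exact gm_unegGen Δ σ hu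
  have e1 : b * n * u = τ b * τ n * τ u := by
    rw [← map_mul, ← map_mul, ← e, hfix]
  obtain ⟨hH, -⟩ := Δ.normal_form_unique hb hτb hn hτn hu hτu e1
  obtain ⟨h', hh'⟩ : ∃ h' : GL D.Idx F, h' = n⁻¹ * τ n := ⟨_, rfl⟩
  rw [← hh'] at hH
  have hτn' : τ n = n * h' := by rw [hh', mul_inv_cancel_left]
  have hτu' : τ u ∈ Subgroup.closure (UnegGen D F n) := by
    rw [hτn'] at hτu
    exact Subgroup.closure_mono (unegGen_mul_diag_subset Δ hH) hτu
  have hconj : n * h' * n⁻¹ ∈ D.diagonalSubgroup F :=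
    ((Subgroup.mem_normalizer_iff.1 hnorm) h').1 hH
  have hb'' : τ b * (n * h' * n⁻¹) ∈ D.borelSubgroup F :=
    Subgroup.mul_mem _ hτb (Δ.diag_le_borel hconj)
  have e2 : b * n * u = τ b * (n * h' * n⁻¹) * n * τ u := by
    rw [e1, hτn']
    group
  obtain ⟨-, h2⟩ := Δ.normal_form_unique hb hb'' hn hn hu hτu' e2
  obtain ⟨-, hufix⟩ := h2 rfl
  have huU : u ∈ D.posUnipotent F := Δ.unegGen_le_posUnipotent n hu
  have huL : u ∈ Lsub D σ :=
    mem_Lsub_of_posUnipotent_fixed hD σ huU (by rw [← hτ]; exact hufix.symm)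
  have hmfix : τ (b * n) = b * n := by
    have : b * n = g * u⁻¹ := by rw [e]; group
    rw [this, map_mul, map_inv, hfix, ← hufix]
  have hb' : b ∈ ((D.posUnipotent F ⊔ D.diagonalSubgroup F : Subgroup (GL D.Idx F)) :
      Set (GL D.Idx F)) := hb
  rw [Subgroup.coe_mul_of_right_le_normalizer_left _ _
    (diagonal_le_normalizer_posUnipotent Δ.hB Δ.hAll Δ.hAdd Δ.hH), Set.mem_mul] at hb'
  obtain ⟨u₁, hu₁, h₁, hh₁, rfl⟩ := hb'
  obtain ⟨k, hk⟩ : ∃ k : GL D.Idx F, k = h₁ * n := ⟨_, rfl⟩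
  have hkN : k ∈ D.monomialSubgroup F := by
    rw [hk]
    exact Subgroup.mul_mem _ (Δ.diag_le_monomial hh₁) hn
  have hτu₁ : τ u₁ ∈ D.posUnipotent F := by rw [hτ]; exact gm_mem_posUnipotent _ hu₁
  have hτk : τ k ∈ D.monomialSubgroup F := by rw [hτ]; exact gm_mem_monomial Δ.hB _ hkN
  have e3 : τ u₁ * τ k = u₁ * k := by
    rw [← map_mul, hk, ← mul_assoc, hmfix]
  have hmem : (τ u₁)⁻¹ * u₁ ∈ D.posUnipotent F ⊓ D.monomialSubgroup F := by
    refine ⟨Subgroup.mul_mem _ (Subgroup.inv_mem _ hτu₁) hu₁, ?_⟩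
    have : (τ u₁)⁻¹ * u₁ = τ k * k⁻¹ := by
      rw [inv_mul_eq_iff_eq_mul, ← mul_assoc, e3, mul_assoc, mul_inv_cancel, mul_one]
    rw [this]
    exact Subgroup.mul_mem _ hτk (Subgroup.inv_mem _ hkN)
  rw [posUnipotent_inf_monomial Δ.hB Δ.hAll Δ.hH Δ.hReach Δ.good, Subgroup.mem_bot,
    inv_mul_eq_one] at hmem
  have hkfix : τ k = k := by
    rw [hmem] at e3
    exact mul_left_cancel e3
  have hu₁L : u₁ ∈ Lsub D σ :=
    mem_Lsub_of_posUnipotent_fixed hD σ hu₁ (by rw [← hτ]; exact hmem)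
  have hkN' : k ∈ ((D.diagonalSubgroup F ⊔ weylGen D F : Subgroup (GL D.Idx F)) :
      Set (GL D.Idx F)) := hkN
  have hWnorm : weylGen D F ≤ Subgroup.normalizer (D.diagonalSubgroup F : Set (GL D.Idx F)) :=
    le_trans weylGen_le_monomial (monomial_le_normalizer Δ.hB Δ.hAll Δ.hH Δ.hReach)
  rw [Subgroup.coe_mul_of_right_le_normalizer_left _ _ hWnorm, Set.mem_mul] at hkN'
  obtain ⟨h₂, hh₂, w, hw, hkw⟩ := hkN'
  have hwfix : τ w = w := by rw [hτ]; exact gm_weylGen_fixed Δ.hB _ hw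
  have hh₂fix : τ h₂ = h₂ := by
    have : τ h₂ * τ w = h₂ * w := by rw [← map_mul, hkw, hkfix]
    rw [hwfix] at this
    exact mul_right_cancel this
  have hwL : w ∈ Lsub D σ := weylGen_le_Lsub Δ.hB σ hw
  rw [hτ] at hh₂fix
  refine ⟨u₁ * (h₂ * (w * u) * h₂⁻¹), ?_, h₂, hh₂, hh₂fix, ?_⟩
  · exact Subgroup.mul_mem _ hu₁L
      (diag_conj_mem_Lsub hD σ hh₂ hh₂fix (Subgroup.mul_mem _ hwL huL))
  · rw [e]
    have hk' : h₁ * n = h₂ * w := by rw [← hk, hkw]
    calc u₁ * h₁ * n * u = u₁ * (h₁ * n) * u := by group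
      _ = u₁ * (h₂ * w) * u := by rw [hk']
      _ = u₁ * (h₂ * (w * u) * h₂⁻¹) * h₂ := by group

/-- **centraliser and normaliser** of a subgroup between `Lsub` and the fixed points -/
theorem cent_norm (hD : IsTabulated D) (σ : F ≃+* F) (K : Subgroup (GL D.Idx F))
    (hKG : K ≤ D.group F) (hLK : Lsub D σ ≤ K) (hKfix : ∀ g ∈ K, gm D (σ : F →+* F) g = g) :
    D.group F ⊓ Subgroup.centralizer (K : Set (GL D.Idx F)) = ⊥ ∧
    ∀ g ∈ D.group F, (g ∈ Subgroup.normalizer (K : Set (GL D.Idx F)) ↔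
      gm D (σ : F →+* F) g = g) := by
  have hB := basicOK_of_tabulated hD
  have Δ := bnData_of_tabulated F hD
  have hcent : ∀ z ∈ D.group F, (∀ x ∈ K, x * z = z * x) → z = 1 := by
    intro z hz hc
    apply eq_one_of_commute hD hz
    intro r hr t ht
    have hσt : σ t = t := by
      rcases ht with rfl | rfl
      · exact map_one σ
      · rw [map_neg, map_one]
    exact (hc _ (hLK (xU_mem_Lsub hB σ r hσt))).symm
  constructor
  · rw [eq_bot_iff]
    rintro z ⟨hz, hzc⟩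
    rw [Subgroup.mem_bot]
    exact hcent z hz (fun x hx => Subgroup.mem_centralizer_iff.1 hzc x hx)
  · -- the fixed points normalise `K`
    have hconj : ∀ g ∈ D.group F, gm D (σ : F →+* F) g = g → ∀ x ∈ K, g * x * g⁻¹ ∈ K := by
      intro g hg hgfix x hx
      obtain ⟨l, hl, h, hh, hhfix, rfl⟩ := exists_decomp hD σ hg hgfix
      obtain ⟨l', hl', h', hh', -, rfl⟩ := exists_decomp hD σ (hKG hx) (hKfix x hx)
      have hcomm : h * h' = h' * h := Cfsg.Agent.Helper2.ChevSimple.diagonal_comm Δ hh hh'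
      have hh'K : h' ∈ K := by
        have : h' = l'⁻¹ * (l' * h') := by group
        rw [this]
        exact Subgroup.mul_mem _ (Subgroup.inv_mem _ (hLK hl')) hx
      have e : l * h * (l' * h') * (l * h)⁻¹ = l * (h * l' * h⁻¹) * h' * l⁻¹ := by
        have : h * (l' * h') * h⁻¹ = (h * l' * h⁻¹) * h' := by
          calc h * (l' * h') * h⁻¹ = h * l' * (h' * h⁻¹) := by group
            _ = h * l' * (h⁻¹ * h') := by
                congr 1
                have : h' * h⁻¹ = h⁻¹ * (h * h') * h⁻¹ := by group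
                rw [this, hcomm]; group
            _ = (h * l' * h⁻¹) * h' := by group
        calc l * h * (l' * h') * (l * h)⁻¹ = l * (h * (l' * h') * h⁻¹) * l⁻¹ := by group
          _ = l * ((h * l' * h⁻¹) * h') * l⁻¹ := by rw [this]
          _ = l * (h * l' * h⁻¹) * h' * l⁻¹ := by group
      rw [e]
      exact Subgroup.mul_mem _ (Subgroup.mul_mem _ (Subgroup.mul_mem _ (hLK hl)
        (hLK (diag_conj_mem_Lsub hD σ hh hhfix hl'))) hh'K) (Subgroup.inv_mem _ (hLK hl))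
    intro g hg
    constructor
    · intro hgN
      rw [Subgroup.mem_normalizer_iff] at hgN
      have hτg : gm D (σ : F →+* F) g ∈ D.group F := gm_mem_group _ hg
      have hz : g⁻¹ * gm D (σ : F →+* F) g = 1 := by
        apply hcent _ (Subgroup.mul_mem _ (Subgroup.inv_mem _ hg) hτg)
        intro x hx
        have h1 : g * x * g⁻¹ ∈ K := (hgN x).1 hx
        have h2 := hKfix _ h1
        rw [map_mul, map_mul, map_inv, hKfix x hx] at h2
        -- τg * x * τg⁻¹ = g * x * g⁻¹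
        have h3 : x * (g⁻¹ * gm D (σ : F →+* F) g) = g⁻¹ * (g * x * g⁻¹) * gm D (σ : F →+* F) g := by
          group
        rw [h3, ← h2]; group
      exact (inv_mul_eq_one.1 hz).symm
    · intro hgfix
      rw [Subgroup.mem_normalizer_iff]
      intro x
      constructor
      · exact hconj g hg hgfix x
      · intro hx
        have hg' : gm D (σ : F →+* F) g⁻¹ = g⁻¹ := by rw [map_inv, hgfix]
        have := hconj g⁻¹ (Subgroup.inv_mem _ hg) hg' _ hx
        have e : g⁻¹ * (g * x * g⁻¹) * g⁻¹⁻¹ = x := by group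
        rwa [e] at this

end Cfsg.Agent.Helper2.FixSub
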